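import Groth.Agent.Lib.ExtShTensorExt
import Groth.Agent.Lib.ExtHH.Basic
import Groth.Agent.Lib.ZarCoh.Affine
import Groth.Agent.Lib.DerivedOX.AffinePush
import Groth.Agent.Lib.DerivedOX.OpenImm
import Groth.Agent.Lib.SchColim29.RpushCoprod
import Groth.Agent.Lib.CohDelta.AffCover
import Groth.Agent.Lib.InjMod.Hull
import Groth.Agent.Lib.Modules.AffineSections
import Groth.Agent.Lib.TensorMod.TensorQCoh
import Groth.Agent.H95.LefFEt.Bidual
import Groth.Agent.H52.ExtResolve

/-!
# Quasi-coherent envelopes without `Ext` from finite locally free modules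
-/

set_option autoImplicit false
set_option linter.style.haveILetI false

universe u

open CategoryTheory Limits AlgebraicGeometry Opposite Abelian

attribute [local instance] HasDerivedCategory.standard

namespace Groth.Agent.H41.AmpleRes

open Groth.Agent.Lib Groth.Agent.Lib.DerivedOX Groth.Agent.Lib.SchColim29

variable {X U : Scheme.{u}}

/-- `Ext^{p+1}(M, N) = 0` on an affine scheme, `M` finite locally free, `N` quasi-coherent. -/
theorem subsingleton_ext_affine [IsAffine U] {M : U.Modules} (hM : FlatMod.IsFinLocFree M)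
    (N : U.Modules) [N.IsQuasicoherent] (p : ℕ) : Subsingleton (Ext.{u} M N (p + 1)) := by
  have hb := Modules.DualBasis.hasDBases_of_isFinLocFree hM
  obtain ⟨e⟩ := ExtShTensor.nonempty_ext_addEquiv hM (Coh.structureModule U) N (p + 1)
  let d : (ExtShStalk.Hom.R M).obj (Coh.structureModule U) ≅ TensorMod.Dual.dual M :=
    (ExtShTensor.homTensorIso hb).app _ ≪≫ TensorMod.Basic.rightUnit (TensorMod.Dual.dual M)
  haveI : (TensorMod.Dual.dual M).IsQuasicoherent :=
    TensorMod.QCohInv.isQCoh_of_isFinLocFree (Groth.Agent.H95.LefFEt.Bidual.isFinLocFree_dual hM)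
  haveI : ((ExtShStalk.Hom.R M).obj (Coh.structureModule U)).IsQuasicoherent :=
    (SheafOfModules.isQuasicoherent U.ringCatSheaf).prop_of_iso d.symm inferInstance
  let N' := CohB1.tensorMod N ((ExtShStalk.Hom.R M).obj (Coh.structureModule U))
  haveI : N'.IsQuasicoherent := TensorMod.TensorQCoh.isQCoh_tensorMod _ _
  haveI : Subsingleton (Coh.HH U ((𝟭 U.Modules).obj N') (p + 1)) := ZarCoh.Affine.HH_subsingleton U N' p
  have h := ExtHH.Basic.extHH_bijective (𝟭 U.Modules) (𝟙 (Coh.structureModule U))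
    (fun Y => ⟨fun f g h => ((Category.id_comp f).symm.trans h).trans (Category.id_comp g),
      fun g => ⟨g, Category.id_comp g⟩⟩) (fun I hI => hI) N' (p + 1)
  haveI : Subsingleton (Ext.{u} (Coh.structureModule U) N' (p + 1)) := h.injective.subsingleton
  haveI : Subsingleton (Ext.{u} (CohB1.tensorMod (Coh.structureModule U) M) N (p + 1)) :=
    e.toEquiv.subsingleton
  refine subsingleton_of_forall_eq 0 fun x => ?_
  have h0 : (Ext.mk₀ (TensorMod.Basic.leftUnit M).hom).comp x (zero_add (p + 1)) = 0 :=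
    Subsingleton.elim _ _
  have h1 := congrArg (fun y => (Ext.mk₀ (TensorMod.Basic.leftUnit M).inv).comp y (zero_add (p + 1))) h0
  simpa using h1

/-- `Ext^{p+1}(M, j_* N) = 0` for an affine morphism `j` from an affine open. -/
theorem subsingleton_ext_push [IsAffine U] (j : U ⟶ X) [IsOpenImmersion j] [IsAffineHom j]
    {M : X.Modules} (hM : FlatMod.IsFinLocFree (M.restrict j)) (N : U.Modules) [N.IsQuasicoherent]
    (p : ℕ) : Subsingleton (Ext.{u} M ((Scheme.Modules.pushforward j).obj N) (p + 1)) := by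
  haveI := Exists.hasRpush j
  haveI := subsingleton_ext_affine hM N p
  let F := (CochainComplex.singleFunctor U.Modules 0).obj N
  have hF : ∀ n, WayOut.Scheme.qc U (F.X n) := fun n => by
    by_cases hn : n = 0
    · subst hn
      exact (WayOut.Scheme.qc U).prop_of_iso
        (HomologicalComplex.singleObjXSelf (ComplexShape.up ℤ) 0 N).symm ‹N.IsQuasicoherent›
    · exact RpushQCoh.qc_of_isZero (HomologicalComplex.isZero_single_obj_X (ComplexShape.up ℤ) 0 N n hn)
  haveI hu := AffinePush.isIso_unit j F hF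
  haveI : IsIso ((RpushCoprod.cmpPush j).app F) := by
    simp only [RpushCoprod.cmpPush, NatTrans.comp_app]
    haveI : IsIso ((Functor.whiskerLeft (HomotopyCategory.quotient U.Modules (ComplexShape.up ℤ))
        ((DCoh.pushKh j).totalRightDerivedUnit DerivedCategory.Qh
          (HomotopyCategory.quasiIso U.Modules (ComplexShape.up ℤ)))).app F) := hu
    infer_instance
  let eP : (RpushCoprod.pushC j).obj F ≅
      (CochainComplex.singleFunctor X.Modules 0).obj ((Scheme.Modules.pushforward j).obj N) :=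
    (HomologicalComplex.singleMapHomologicalComplex (Scheme.Modules.pushforward j)
      (ComplexShape.up ℤ) 0).app N
  let eK : DCoh.inD X ((Scheme.Modules.pushforward j).obj N) ≅ (DCoh.Rpush j).obj (DCoh.inD U N) :=
    (DerivedCategory.singleFunctorIsoCompQ X.Modules 0).app _ ≪≫ DerivedCategory.Q.mapIso eP.symm ≪≫
      asIso ((RpushCoprod.cmpPush j).app F) ≪≫
      (DCoh.Rpush j).mapIso ((DerivedCategory.singleFunctorIsoCompQ U.Modules 0).app N).symm
  let n : ℤ := ((p + 1 : ℕ) : ℤ)
  let eM : (DCoh.restrictD j).obj (DCoh.inD X M) ≅ DCoh.inD U (M.restrict j) :=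
    ((Scheme.Modules.restrictFunctor j).mapDerivedCategorySingleFunctor 0).app M
  haveI : Subsingleton ((DCoh.restrictD j).obj (DCoh.inD X M) ⟶ (DCoh.inD U N)⟦n⟧) :=
    (eM.homCongr (Iso.refl _)).trans (Ext.homEquiv (n := p + 1)).symm |>.subsingleton
  haveI : Subsingleton (DCoh.inD X M ⟶ (DCoh.Rpush j).obj ((DCoh.inD U N)⟦n⟧)) :=
    ((OpenImm.restrictPushAdj j).homEquiv _ _).symm.subsingleton
  haveI : Subsingleton (DCoh.inD X M ⟶
      (shiftFunctor (DCoh.D U) n ⋙ DCoh.Rpush j).obj (DCoh.inD U N)) := ‹_›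
  haveI : Subsingleton (DCoh.inD X M ⟶ (DCoh.inD X ((Scheme.Modules.pushforward j).obj N))⟦n⟧) :=
    ((Iso.refl _).homCongr ((shiftFunctor (DCoh.D X) n).mapIso eK ≪≫
      (((DCoh.Rpush j).commShiftIso n).app _).symm)).subsingleton
  exact (Ext.homEquiv (n := p + 1)).subsingleton

/-- Quasi-coherent modules embed into quasi-coherent modules without higher `Ext` from finite
locally free modules. -/
def HasKillers (X : Scheme.{u}) : Prop :=
  ∀ H : X.Modules, H.IsQuasicoherent → ∃ (T : X.Modules) (i : H ⟶ T), Mono i ∧ T.IsQuasicoherent ∧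
    ∀ M : X.Modules, FlatMod.IsFinLocFree M → ∀ p : ℕ, Subsingleton (Ext.{u} M T (p + 1))

theorem hasKillers_of_isNoetherian [IsNoetherian X] : HasKillers X := fun H hH => by
  haveI := hH
  obtain ⟨T, i, hi, hT, hTq⟩ := InjMod.exists_qcoh_hull H
  haveI := hT
  exact ⟨T, i, hi, hTq, fun M _ p => subsingleton_of_forall_eq 0 fun e => e.eq_zero_of_injective⟩

theorem subsingleton_ext_biproduct {κ : Type} [Finite κ] [HasFiniteBiproducts X.Modules]
    (N : κ → X.Modules) (M : X.Modules) (p : ℕ) (h : ∀ k, Subsingleton (Ext.{u} M (N k) p)) :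
    Subsingleton (Ext.{u} M (⨁ N) p) := by
  classical
  haveI := Fintype.ofFinite κ
  refine subsingleton_of_forall_eq 0 fun ξ => ?_
  have h2 : ξ = ξ.comp (Ext.mk₀ (∑ k, biproduct.π N k ≫ biproduct.ι N k)) (add_zero p) := by
    rw [biproduct.total, Ext.comp_mk₀_id]
  rw [h2, Ext.mk₀_sum, Ext.comp_sum]
  refine Finset.sum_eq_zero fun k _ => ?_
  haveI := h k
  rw [← Ext.mk₀_comp_mk₀, ← Ext.comp_assoc_of_second_deg_zero,
    Subsingleton.elim (ξ.comp (Ext.mk₀ (biproduct.π N k)) (add_zero p)) 0, Ext.zero_comp]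

set_option maxHeartbeats 1000000 in
theorem hasKillers_of_isSeparated [CompactSpace X] [X.IsSeparated] : HasKillers X := fun M hM => by
  haveI := hM
  obtain ⟨s, hs, hcov⟩ := isCompact_and_isOpen_iff_finite_and_eq_biUnion_affineOpens.mp
    (⟨isCompact_univ, isOpen_univ⟩ : IsCompact (Set.univ : Set X) ∧ IsOpen (Set.univ : Set X))
  haveI := hs.fintype
  let V : Fin (Fintype.card s) → X.Opens := fun k => ((Fintype.equivFin s).symm k).1.1
  have hV : ∀ k, IsAffineOpen (V k) := fun k => ((Fintype.equivFin s).symm k).1.2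
  haveI : ∀ k, IsAffine (V k : Scheme.{u}) := fun k => hV k
  haveI : ∀ k, IsAffineHom (V k).ι := fun k => ⟨fun A hA => by
    have h := ((hV k).inf hA).preimage_of_isOpenImmersion (V k).ι
      (by rw [Scheme.Opens.opensRange_ι]; exact inf_le_left)
    have e : (V k).ι ⁻¹ᵁ (V k ⊓ A) = (V k).ι ⁻¹ᵁ A := by
      rw [Scheme.Hom.preimage_inf, Scheme.Opens.ι_preimage_self, top_inf_eq]
    rwa [e] at h⟩
  let N : Fin (Fintype.card s) → X.Modules := fun k =>
    (Scheme.Modules.pushforward (V k).ι).obj (M.restrict (V k).ι)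
  haveI hN : ∀ k, (N k).IsQuasicoherent := fun k =>
    QCoh.Pushforward.isQCoh_pushforward (V k).ι (M := M.restrict (V k).ι)
  haveI : HasFiniteBiproducts X.Modules := HasFiniteBiproducts.of_hasFiniteCoproducts
  let i : M ⟶ ⨁ N :=
    biproduct.lift fun k => (Scheme.Modules.restrictAdjunction (V k).ι).unit.app M
  refine ⟨⨁ N, i, ?_, ?_, fun L hL p => subsingleton_ext_biproduct N L (p + 1) fun k => ?_⟩
  rotate_right
  · have hk : FlatMod.IsFinLocFree (L.restrict (V k).ι) :=
      TensorMod.LocFree.isFinLocFree_restrict (V k).ι hL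
    exact subsingleton_ext_push (V k).ι (M := L) hk (M.restrict (V k).ι) p
  · refine (Modules.Stalk.mono_iff_app_injective i).mpr fun W a b hab => ?_
    have hle : W ≤ iSup fun k => (V k).ι ''ᵁ (V k).ι ⁻¹ᵁ W := fun x hx => by
      obtain ⟨c, hc, hxc⟩ := Set.mem_iUnion₂.mp (hcov ▸ Set.mem_univ x)
      refine TopologicalSpace.Opens.mem_iSup.mpr ⟨Fintype.equivFin s ⟨c, hc⟩, ?_⟩
      rw [Scheme.Hom.image_preimage_eq_opensRange_inf, Scheme.Opens.opensRange_ι]
      exact ⟨by simpa [V] using hxc, hx⟩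
    refine TopCat.Sheaf.eq_of_locally_eq' ⟨M.presheaf, M.isSheaf⟩ _ W
      (fun k => homOfLE ((V k).ι.image_preimage_le W)) hle a b fun k => ?_
    have hk : i ≫ biproduct.π N k = (Scheme.Modules.restrictAdjunction (V k).ι).unit.app M :=
      biproduct.lift_π _ _
    have := congrArg ((biproduct.π N k).app W) hab
    change (i ≫ biproduct.π N k).app W a = (i ≫ biproduct.π N k).app W b at this
    rw [hk] at this
    exact this
  · have hc : ((∐ N) : X.Modules).IsQuasicoherent :=
      QCoh.Closure.isQCoh_of_isColimit (coproductIsCoproduct N) fun j => hN j.as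
    exact (SheafOfModules.isQuasicoherent X.ringCatSheaf).prop_of_iso
      (biproduct.isoCoproduct N).symm hc

end Groth.Agent.H41.AmpleRes
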