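import Groth.Agent.H41.AmpleRes.Killer
import Groth.Agent.H56.ResPerf.Resolve
import Groth.Agent.Lib.Perfect.Coherent
import Groth.Agent.Lib.DerivedOX.QCohLocal
import Groth.Agent.Lib.DR.FiniteComplex

/-!
# Lifting to cycles by effaceability of `Ext`

If a class `P` of finite locally free modules covers all quasi-coherent modules of finite type and
`HasKillers X` holds, every class of `Ext^{p+1}(M, H)`, `M ∈ P`, `H` quasi-coherent, dies on some
member of `P` mapping onto `M`; this propagates to the cycles and boundaries of suitable complexes.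
-/

set_option autoImplicit false
set_option linter.style.haveILetI false

universe u

open CategoryTheory Limits AlgebraicGeometry Abelian

attribute [local instance] HasDerivedCategory.standard

namespace Groth.Agent.H41.AmpleRes

open Groth.Agent.Lib

variable {X : Scheme.{u}}

/-- `P` consists of finite locally free modules and covers the quasi-coherent modules of finite
type. -/
structure Covers (P : ObjectProperty X.Modules) : Prop where
  flf : ∀ M, P M → FlatMod.IsFinLocFree M
  epi : ∀ F : X.Modules, Coh.IsQCoh F → CohB1.IsFT F → ∃ (L : X.Modules) (π : L ⟶ F), P L ∧ Epi π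

variable {P : ObjectProperty X.Modules}

theorem Covers.resolution (hP : Covers P) : PerfAux.HasResolutionProperty X := fun F hq hft => by
  obtain ⟨L, π, hL, hπ⟩ := hP.epi F hq hft
  exact ⟨L, π, hP.flf L hL, hπ⟩

/-- A quotient of finite type of a quasi-coherent module is reached from `P`. -/
theorem Covers.exists_lift [CompactSpace X] [QuasiSeparatedSpace X] (hP : Covers P) {Z H : X.Modules}
    [Z.IsQuasicoherent] [H.IsQuasicoherent] (q : Z ⟶ H) [Epi q] (hH : CohB1.IsFT H) :
    ∃ (L : X.Modules) (v : L ⟶ Z), P L ∧ Epi (v ≫ q) := by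
  obtain ⟨L₀, v₀, hL₀, hv₀⟩ := H56.ResPerf.exists_lift hP.resolution q hH
  obtain ⟨L, π, hL, hπ⟩ := hP.epi L₀ (Perfect.Coherent.isCoh_of_isFinLocFree hL₀).1
    (Perfect.Coherent.isCoh_of_isFinLocFree hL₀).2
  haveI := hπ
  haveI := hv₀
  exact ⟨L, π ≫ v₀, hL, by rw [Category.assoc]; exact epi_comp _ _⟩

variable (P) in
/-- Higher classes with values in `H` die on members of `P`. -/
def Eff (H : X.Modules) : Prop :=
  ∀ M : X.Modules, P M → ∀ (p : ℕ) (e : Ext.{u} M H (p + 1)),
    ∃ (L : X.Modules) (v : L ⟶ M), P L ∧ Epi v ∧ (Ext.mk₀ v).comp e (zero_add (p + 1)) = 0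

theorem eff_qcoh [CompactSpace X] [QuasiSeparatedSpace X] (hP : Covers P) (hK : HasKillers X)
    (H : X.Modules) [H.IsQuasicoherent] : Eff P H := by
  intro M hM p e
  induction p generalizing H M with
  | zero =>
    obtain ⟨T, i, hi, hT, hTM⟩ := hK H ‹_›
    haveI := hT
    let S := ShortComplex.mk i (cokernel.π i) (cokernel.condition i)
    have hS : S.ShortExact := { exact := ShortComplex.exact_cokernel i }
    haveI := hTM M (hP.flf M hM) 0
    obtain ⟨x₃, hx₃⟩ := Ext.covariant_sequence_exact₁ M hS e (Subsingleton.elim _ _) (zero_add 1)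
    obtain ⟨g, rfl⟩ := (Ext.mk₀_bijective _ _).2 x₃
    haveI : (cokernel i).IsQuasicoherent := QCoh.Closure.isQCoh_cokernel i
    have hMc := Perfect.Coherent.isCoh_of_isFinLocFree (hP.flf M hM)
    haveI : M.IsQuasicoherent := hMc.1
    let d : M ⊞ T ⟶ cokernel i := biprod.desc g (-cokernel.π i)
    haveI : (M ⊞ T).IsQuasicoherent := QCoh.Closure.isQCoh_biprod
    haveI : (kernel d).IsQuasicoherent := QCoh.Closure.isQCoh_kernel d
    let q : kernel d ⟶ M := kernel.ι d ≫ biprod.fst
    have hd : q ≫ g = (kernel.ι d ≫ biprod.snd) ≫ cokernel.π i := by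
      have hd' : d = biprod.fst ≫ g - biprod.snd ≫ cokernel.π i := by
        apply biprod.hom_ext' <;> simp [d]
      have h : kernel.ι d ≫ (biprod.fst ≫ g - biprod.snd ≫ cokernel.π i) = 0 :=
        (congrArg (kernel.ι d ≫ ·) hd').symm.trans (kernel.condition d)
      rw [Preadditive.comp_sub, sub_eq_zero] at h
      simpa only [q, Category.assoc] using h
    haveI : Epi q := by
      refine (epi_iff_surjective_up_to_refinements q).2 fun A a => ?_
      obtain ⟨A', π, hπ, t, ht⟩ := surjective_up_to_refinements_of_epi (cokernel.π i) (a ≫ g)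
      exact ⟨A', π, hπ, kernel.lift d (biprod.lift (π ≫ a) t) (by simp [d, ← ht]), by simp [q]⟩
    obtain ⟨L, v, hL, hv⟩ := hP.exists_lift q hMc.2
    refine ⟨L, v ≫ q, hL, hv, ?_⟩
    rw [← hx₃, Ext.mk₀_comp_mk₀_assoc, Category.assoc, hd, ← Category.assoc,
      ← Ext.mk₀_comp_mk₀_assoc]
    have h0 : (Ext.mk₀ (cokernel.π i)).comp hS.extClass (zero_add 1) = 0 := hS.comp_extClass
    rw [h0, Ext.comp_zero]
  | succ p ih =>
    obtain ⟨T, i, hi, hT, hTM⟩ := hK H ‹_›
    haveI := hT
    let S := ShortComplex.mk i (cokernel.π i) (cokernel.condition i)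
    have hS : S.ShortExact := { exact := ShortComplex.exact_cokernel i }
    haveI := hTM M (hP.flf M hM) (p + 1)
    obtain ⟨x₃, hx₃⟩ := Ext.covariant_sequence_exact₁ M hS e (Subsingleton.elim _ _) (rfl : p + 1 + 1 = _)
    haveI : S.X₃.IsQuasicoherent := QCoh.Closure.isQCoh_cokernel i
    obtain ⟨L, v, hL, hv, h0⟩ := ih S.X₃ M hM x₃
    refine ⟨L, v, hL, hv, ?_⟩
    rw [← hx₃, ← Ext.comp_assoc _ _ _ (zero_add (p + 1)) rfl (by omega), h0, Ext.zero_comp]

theorem eff_injective (hP : Covers P) (H : X.Modules) [Injective H] : Eff P H := fun M hM _ e => by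
  obtain ⟨L, π, hL, hπ⟩ := hP.epi M (Perfect.Coherent.isCoh_of_isFinLocFree (hP.flf M hM)).1
    (Perfect.Coherent.isCoh_of_isFinLocFree (hP.flf M hM)).2
  exact ⟨L, π, hL, hπ, by rw [e.eq_zero_of_injective, Ext.comp_zero]⟩

theorem eff_iso {H H' : X.Modules} (i : H ≅ H') (h : Eff P H) : Eff P H' := fun M hM p e => by
  obtain ⟨L, v, hL, hv, h0⟩ := h M hM p (e.comp (Ext.mk₀ i.inv) (add_zero (p + 1)))
  refine ⟨L, v, hL, hv, ?_⟩
  have h1 := congrArg (fun y => y.comp (Ext.mk₀ i.hom) (add_zero (p + 1))) h0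
  simpa using h1

section SES

variable {S : ShortComplex X.Modules} (hS : S.ShortExact)
include hS

theorem eff₂ (h₁ : Eff P S.X₁) (h₃ : Eff P S.X₃) : Eff P S.X₂ := fun M hM p e => by
  obtain ⟨L, v, hL, hv, h0⟩ := h₃ M hM p (e.comp (Ext.mk₀ S.g) (add_zero (p + 1)))
  obtain ⟨x₁, hx₁⟩ := Ext.covariant_sequence_exact₂ L hS ((Ext.mk₀ v).comp e (zero_add (p + 1)))
    (by rw [Ext.comp_assoc _ _ _ (zero_add (p + 1)) (add_zero (p + 1)) (by omega), h0])
  obtain ⟨L', v', hL', hv', h0'⟩ := h₁ L hL p x₁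
  haveI := hv
  haveI := hv'
  refine ⟨L', v' ≫ v, hL', epi_comp _ _, ?_⟩
  rw [← Ext.mk₀_comp_mk₀_assoc, ← hx₁, ← Ext.comp_assoc _ _ _ (zero_add (p + 1)) (add_zero (p + 1))
    (by omega), h0', Ext.zero_comp]

theorem eff₃ (h₁ : Eff P S.X₁) (h₂ : Eff P S.X₂) : Eff P S.X₃ := fun M hM p e => by
  obtain ⟨L, v, hL, hv, h0⟩ := h₁ M hM (p + 1) (e.comp hS.extClass rfl)
  obtain ⟨x₂, hx₂⟩ := Ext.covariant_sequence_exact₃ L hS ((Ext.mk₀ v).comp e (zero_add (p + 1)))
    (rfl : p + 1 + 1 = _)
    (by rw [Ext.comp_assoc _ _ _ (zero_add (p + 1)) rfl (by omega), h0])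
  obtain ⟨L', v', hL', hv', h0'⟩ := h₂ L hL p x₂
  haveI := hv
  haveI := hv'
  refine ⟨L', v' ≫ v, hL', epi_comp _ _, ?_⟩
  rw [← Ext.mk₀_comp_mk₀_assoc, ← hx₂, ← Ext.comp_assoc _ _ _ (zero_add (p + 1)) (add_zero (p + 1))
    (by omega), h0', Ext.zero_comp]

/-- A map from `P` to the quotient lifts to the middle after a cover. -/
theorem exists_cover_lift (h₁ : Eff P S.X₁) {M : X.Modules} (hM : P M) (q : M ⟶ S.X₃) :
    ∃ (L : X.Modules) (v : L ⟶ M) (w : L ⟶ S.X₂), P L ∧ Epi v ∧ w ≫ S.g = v ≫ q := by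
  obtain ⟨L, v, hL, hv, h0⟩ := h₁ M hM 0 ((Ext.mk₀ q).comp hS.extClass (zero_add 1))
  rw [Ext.mk₀_comp_mk₀_assoc] at h0
  obtain ⟨x₂, hx₂⟩ := Ext.covariant_sequence_exact₃ L hS (Ext.mk₀ (v ≫ q)) (zero_add 1) h0
  obtain ⟨w, rfl⟩ := (Ext.mk₀_bijective _ _).2 x₂
  rw [Ext.mk₀_comp_mk₀] at hx₂
  exact ⟨L, v, w, hL, hv, (Ext.mk₀_bijective _ _).1 hx₂⟩

end SES

theorem eff_biprod {H H' : X.Modules} (h : Eff P H) (h' : Eff P H') : Eff P (H ⊞ H') :=
  eff₂ (S := ShortComplex.mk (biprod.inl : H ⟶ H ⊞ H') biprod.snd biprod.inl_snd)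
    (ShortComplex.Splitting.ofHasBinaryBiproduct H H').shortExact h h'

theorem eff_isZero (hP : Covers P) {H : X.Modules} (h : IsZero H) : Eff P H :=
  haveI : Injective H := h.injective
  eff_injective hP H

section Complex

variable (C : CochainComplex X.Modules ℤ)

/-- The kernel of the map from cycles onto homology is the image of the differential. -/
noncomputable def kerHomologyπIso (i j : ℤ) (h : i + 1 = j) :
    kernel (C.homologyπ j) ≅ Abelian.image (C.toCycles i j) :=
  kernelIsoOfEq (IsColimit.comp_coconePointUniqueUpToIso_hom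
      (cokernelIsCokernel (C.toCycles i j))
      (C.homologyIsCokernel i j (by simp; omega)) WalkingParallelPair.one).symm ≪≫
    kernelCompMono _ _

/-- The cycles of a bounded below complex of effaceable modules with quasi-coherent homology. -/
theorem eff_cycles [CompactSpace X] [QuasiSeparatedSpace X] (hP : Covers P) (hK : HasKillers X)
    (m : ℤ) (hm : ∀ i < m, IsZero (C.X i)) (hX : ∀ i, Eff P (C.X i))
    (hH : ∀ i, (C.homology i).IsQuasicoherent) :
    ∀ i, Eff P (C.cycles i) ∧ Eff P (kernel (C.homologyπ i)) := by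
  have key : ∀ (k : ℕ), Eff P (C.cycles (m - 1 + k)) := by
    intro k
    induction k with
    | zero =>
      refine eff_isZero hP ((IsZero.iff_id_eq_zero _).2 ?_)
      rw [← cancel_mono (C.iCycles _)]
      exact (hm _ (by omega)).eq_of_tgt _ _
    | succ k ih =>
      let i := m - 1 + k
      let j := m - 1 + ((k + 1 : ℕ) : ℤ)
      have hij : i + 1 = j := by simp only [i, j]; push_cast; ring
      refine eff₂ (S := ShortComplex.mk (kernel.ι (C.homologyπ j)) (C.homologyπ j) (kernel.condition _))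
        { exact := ShortComplex.exact_kernel _ } ?_ (haveI := hH j; eff_qcoh hP hK _)
      refine eff_iso (kerHomologyπIso C i j hij).symm ?_
      let f := C.toCycles i j
      have hex : (ShortComplex.mk (kernel.ι f) (Abelian.factorThruImage f)
          (by rw [← cancel_mono (kernel.ι (cokernel.π f)), Category.assoc, kernel.lift_ι,
            kernel.condition, zero_comp])).ShortExact :=
        { exact := ShortComplex.exact_of_f_is_kernel _ (KernelFork.IsLimit.ofι' _ _ fun k hk =>
            ⟨kernel.lift f k (by rw [← Abelian.image.fac f, reassoc_of% hk, zero_comp]), kernel.lift_ι _ _ _⟩) }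
      refine eff₃ hex ?_ (hX i)
      let e : C.cycles i ≅ kernel f :=
        IsLimit.conePointUniqueUpToIso (C.cyclesIsKernel i j (by simp; omega)) (kernelIsKernel _) ≪≫
          kernelIsoOfEq (C.toCycles_i i j).symm ≪≫ kernelCompMono f (C.iCycles j)
      exact eff_iso e ih
  have key' : ∀ i, Eff P (C.cycles i) := fun i => by
    by_cases h : i < m
    · refine eff_isZero hP ((IsZero.iff_id_eq_zero _).2 ?_)
      rw [← cancel_mono (C.iCycles _)]
      exact (hm _ h).eq_of_tgt _ _
    · obtain ⟨k, rfl⟩ : ∃ k : ℕ, i = m - 1 + k := ⟨(i - m + 1).toNat, by omega⟩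
      exact key k
  refine fun j => ⟨key' j, eff_iso (kerHomologyπIso C (j - 1) j (by omega)).symm ?_⟩
  let f := C.toCycles (j - 1) j
  have hex : (ShortComplex.mk (kernel.ι f) (Abelian.factorThruImage f)
      (by rw [← cancel_mono (kernel.ι (cokernel.π f)), Category.assoc, kernel.lift_ι,
        kernel.condition, zero_comp])).ShortExact :=
    { exact := ShortComplex.exact_of_f_is_kernel _ (KernelFork.IsLimit.ofι' _ _ fun k hk =>
        ⟨kernel.lift f k (by rw [← Abelian.image.fac f, reassoc_of% hk, zero_comp]), kernel.lift_ι _ _ _⟩) }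
  refine eff₃ hex ?_ (hX (j - 1))
  let e : C.cycles (j - 1) ≅ kernel f :=
    IsLimit.conePointUniqueUpToIso (C.cyclesIsKernel (j - 1) j (by simp)) (kernelIsKernel _) ≪≫
      kernelIsoOfEq (C.toCycles_i (j - 1) j).symm ≪≫ kernelCompMono f (C.iCycles j)
  exact eff_iso e (key' _)

/-- A finite-type homology sheaf is reached from `P` through the cycles. -/
theorem exists_lift_homology [CompactSpace X] [QuasiSeparatedSpace X] (hP : Covers P)
    (hK : HasKillers X) (m : ℤ) (hm : ∀ i < m, IsZero (C.X i)) (hX : ∀ i, Eff P (C.X i))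
    (hH : ∀ i, (C.homology i).IsQuasicoherent) (n : ℤ) (hft : CohB1.IsFT (C.homology n)) :
    ∃ (L : X.Modules) (v : L ⟶ C.cycles n), P L ∧ Epi (v ≫ C.homologyπ n) := by
  obtain ⟨L₀, q, hL₀, hq⟩ := hP.epi (C.homology n) (hH n) hft
  obtain ⟨L, v, w, hL, hv, hw⟩ := exists_cover_lift
    (S := ShortComplex.mk (kernel.ι (C.homologyπ n)) (C.homologyπ n) (kernel.condition _))
    { exact := ShortComplex.exact_kernel _ } (eff_cycles C hP hK m hm hX hH n).2 hL₀ q
  haveI := hv
  haveI := hq
  exact ⟨L, w, hL, by rw [show w ≫ C.homologyπ n = v ≫ q from hw]; exact epi_comp _ _⟩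

end Complex

end Groth.Agent.H41.AmpleRes
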