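import Groth.Agent.H41.AmpleRes.Lift
import Groth.Agent.H56.ResPerf.Trunc
import Groth.Agent.H56.ResPerf.Family
import Groth.Agent.Lib.Perfect.PerfAmp
import Groth.Agent.Lib.SchColim29.QCohResolve
import Mathlib.Algebra.Homology.Factorizations.CM5a

/-!
# Global resolutions by a covering class of finite locally free modules
-/

set_option autoImplicit false
set_option linter.style.haveILetI false
set_option linter.unusedSectionVars false

universe v u

open CategoryTheory CategoryTheory.Limits CochainComplex AlgebraicGeometry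
open Groth.Agent.Lib.PCoh.Cone Groth.Agent.Lib.DR.FiniteComplex
open Groth.Agent.Lib.SchColim29.QCohResolve (step)
open scoped ZeroObject

attribute [local instance] HasDerivedCategory.standard

namespace Groth.Agent.H41.AmpleRes

section Abstract

variable {C : Type u} [Category.{v} C] [Abelian C] {E F : CochainComplex C ℤ}

/-- The top homology of the cone of a partial resolution is reached from `P` through the cycles. -/
def Approximable (P : ObjectProperty C) (K : CochainComplex C ℤ) (b : ℤ) : Prop :=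
  ∀ (n : ℤ) (E : CochainComplex C ℤ) (φ : E ⟶ K), (∀ i, P (E.X i)) →
    (∀ i, i < n + 1 ∨ b < i → IsZero (E.X i)) → ExactGE φ (n + 1) →
    ∃ (L : C) (v₀ : L ⟶ (mappingCone φ).cycles n), P L ∧ Epi (v₀ ≫ (mappingCone φ).homologyπ n)

variable (P : ObjectProperty C) (K : CochainComplex C ℤ) (b : ℤ)

/-- A partial resolution down to degree `b + 1 - k`. -/
structure Stage (k : ℕ) where
  /-- the complex -/
  E : CochainComplex C ℤ
  /-- the map -/
  φ : E ⟶ K
  bounds : ∀ i, i < b + 1 - k ∨ b < i → IsZero (E.X i)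
  mem : ∀ i, P (E.X i)
  exact_cone : ExactGE φ (b + 1 - k)

variable {P K b}

lemma exists_next (hP : Good P) (hK : Approximable P K b) {k : ℕ} (s : Stage P K b k) :
    ∃ (s' : Stage P K b (k + 1)) (v : s.E ⟶ s'.E), v ≫ s'.φ = s.φ ∧
      ∀ i, i ≠ b - k → IsIso (v.f i) := by
  obtain ⟨E, φ, hE, hEp, hex⟩ := s
  obtain ⟨L, v₀, hL, hv₀⟩ := hK (b - k) E φ hEp (fun i hi => hE i (by lia)) (hex.mono (by lia))
  obtain ⟨E', v, u', e, hv, hiso, hex'⟩ := step (b - k) φ (hex.mono (by lia)) v₀ hv₀
  refine ⟨⟨E', u', fun i hi => ?_, fun i => ?_, hex'.mono (by lia)⟩, v, hv, hiso⟩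
  · have := hiso i (by lia)
    exact (hE i (by lia)).of_iso (asIso (v.f i)).symm
  · by_cases h : i = b - k
    · subst h
      exact hP.iso e.symm (hP.biprod (hEp _) hL)
    · have := hiso i h
      exact hP.iso (asIso (v.f i)) (hEp i)

/-- Every approximable complex has a resolution by a bounded above complex with terms in `P`. -/
theorem exists_resolution (hP : Good P)
    [HasColimitsOfShape ℕ C] (hb : ∀ i, b < i → K.ExactAt i) (hK : Approximable P K b) :
    ∃ (G : CochainComplex C ℤ) (s : G ⟶ K), (∀ i, b < i → IsZero (G.X i)) ∧ (∀ i, P (G.X i)) ∧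
      QuasiIso s := by
  have hz : ∀ i, IsZero ((0 : CochainComplex C ℤ).X i) := fun i =>
    Functor.map_isZero (HomologicalComplex.eval C (.up ℤ) i) (isZero_zero _)
  let s₀ : Stage P K b 0 :=
    { E := 0
      φ := 0
      bounds := fun i _ => hz i
      mem := fun i => hP.zero (hz i)
      exact_cone := Groth.Agent.Lib.PCoh.Resolve.exactGE_zero K hz 0 fun i hi => hb i (by lia) }
  choose next v hv hiso using fun k (s : Stage P K b k) => exists_next hP hK s
  let seq : ∀ k, Stage P K b k := fun k => Nat.rec (motive := fun k => Stage P K b k) s₀ next k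
  let F : ℕ ⥤ CochainComplex C ℤ := Functor.ofSequence (X := fun k => (seq k).E) fun k => v k (seq k)
  let c : Cocone F :=
    { pt := K
      ι := NatTrans.ofSequence (fun k => (seq k).φ) fun k => by
        change F.map (homOfLE (Nat.le_succ k)) ≫ (seq (k + 1)).φ = (seq k).φ ≫ 𝟙 K
        rw [Category.comp_id]
        exact (congrArg (· ≫ (seq (k + 1)).φ) (Functor.ofSequence_map_homOfLE_succ _ k)).trans
          (hv k (seq k)) }
  have hev : ∀ (i : ℤ) (k : ℕ), b + 1 - k ≤ i →
      (F ⋙ HomologicalComplex.eval C (.up ℤ) i).IsEventuallyConstantFrom k := by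
    intro i k hk l f
    obtain ⟨d, rfl⟩ := Nat.exists_eq_add_of_le (leOfHom f)
    rw [Subsingleton.elim f (homOfLE (Nat.le_add_right k d))]
    clear f
    induction d with
    | zero =>
      rw [show homOfLE (Nat.le_add_right k 0) = 𝟙 k from rfl, CategoryTheory.Functor.map_id]
      infer_instance
    | succ d ih =>
      rw [show homOfLE (Nat.le_add_right k (d + 1)) =
        homOfLE (Nat.le_add_right k d) ≫ homOfLE (Nat.le_succ (k + d)) from rfl,
        CategoryTheory.Functor.map_comp]
      have : IsIso ((F ⋙ HomologicalComplex.eval C (.up ℤ) i).map (homOfLE (Nat.le_succ (k + d)))) := by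
        change IsIso ((F.map (homOfLE (Nat.le_succ (k + d)))).f i)
        rw [show F.map (homOfLE (Nat.le_succ (k + d))) = v (k + d) (seq (k + d)) from
          Functor.ofSequence_map_homOfLE_succ _ _]
        exact hiso _ _ i (by lia)
      infer_instance
  have hι : ∀ (i : ℤ) (k : ℕ), b + 1 - k ≤ i → IsIso ((colimit.ι F k).f i) := fun i k hk =>
    (hev i k hk).isIso_ι_of_isColimit
      (isColimitOfPreserves (HomologicalComplex.eval C (.up ℤ) i) (colimit.isColimit F))
  refine ⟨colimit F, colimit.desc F c, fun i hi => ?_, fun i => ?_, ⟨fun i => ?_⟩⟩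
  · have := hι i (b + 1 - i).toNat (by lia)
    exact ((seq (b + 1 - i).toNat).bounds i (Or.inr hi)).of_iso
      (asIso ((colimit.ι F (b + 1 - i).toNat).f i)).symm
  · have := hι i (b + 1 - i).toNat (by lia)
    exact hP.iso (asIso ((colimit.ι F (b + 1 - i).toNat).f i)) ((seq (b + 1 - i).toNat).mem i)
  · obtain ⟨k, hk⟩ : ∃ k : ℕ, b + 1 - k ≤ i - 1 := ⟨(b + 2 - i).toNat, by lia⟩
    have h₁ : QuasiIsoAt (colimit.ι F k) i := by
      rw [quasiIsoAt_iff' _ (i - 1) i (i + 1) (by simp) (by simp)]
      let φ := (HomologicalComplex.shortComplexFunctor' C (.up ℤ) (i - 1) i (i + 1)).map (colimit.ι F k)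
      have : IsIso φ.τ₁ := hι (i - 1) k hk
      have : IsIso φ.τ₂ := hι i k (by lia)
      have : IsIso φ.τ₃ := hι (i + 1) k (by lia)
      exact ShortComplex.quasiIso_of_epi_of_isIso_of_mono φ
    have h₂ : QuasiIsoAt (colimit.ι F k ≫ colimit.desc F c) i := by
      rw [colimit.ι_desc, quasiIsoAt_iff_isIso_homologyMap]
      exact ((exactGE_iff _ _).1 (seq k).exact_cone).2 i (by lia)
    exact quasiIsoAt_of_comp_left (colimit.ι F k) (colimit.desc F c) i

end Abstract

section Scheme

open Groth.Agent.Lib Groth.Agent.Lib.DR.FiniteComplex Groth.Agent.Lib.Perfect Groth.Agent.Lib.Perfect.Basic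
open Groth.Agent.Lib.Perfect.PseudoCoh Groth.Agent.Lib.Perfect.FlatPerfect

universe w

variable {X : Scheme.{w}}

/-- A pseudo-coherent object has quasi-coherent cohomology. -/
theorem isQCohD_of_pc {X : Scheme.{u}} {K : DCoh.D X} (hK : ∀ m, DCoh.IsPseudoCoherentD m K) :
    DCoh.IsQCohD K := fun i =>
  QCohD.isQCoh_of_cover fun x => by
    obtain ⟨U, j, _, y, E, α, hy, ⟨-, hlf⟩, hα⟩ := (iff_forall (i - 1) K).1 (hK _) x
    haveI : ∀ n, (E.X n).IsQuasicoherent := fun n => TensorMod.QCohInv.isQCoh_of_isFinLocFree (hlf n)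
    have h1 : (E.cycles i).IsQuasicoherent := by
      haveI := QCoh.Closure.isQCoh_kernel (E.d i ((ComplexShape.up ℤ).next i))
      exact @CohBasics.Closure.isQCoh_of_iso _ _ _
        ((E.cyclesIsKernel i _ rfl).conePointUniqueUpToIso (kernelIsKernel _)).symm ‹_›
    have h2 : (E.homology i).IsQuasicoherent := by
      haveI := h1
      haveI := QCoh.Closure.isQCoh_cokernel (E.toCycles ((ComplexShape.up ℤ).prev i) i)
      exact @CohBasics.Closure.isQCoh_of_iso _ _ _
        ((E.homologyIsCokernel _ i rfl).coconePointUniqueUpToIso (cokernelIsCokernel _)).symm ‹_›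
    haveI := hα.1 i (by lia)
    exact ⟨U, j, inferInstance, y, hy, @CohBasics.Closure.isQCoh_of_iso _ _ _
      (((DerivedCategory.homologyFunctorFactors U.Modules i).app E).symm ≪≫
        asIso ((DerivedCategory.homologyFunctor U.Modules i).map α) ≪≫ Coherent.homologyIso j K i) h2⟩

/-- Splitting off the first summand. -/
noncomputable def succIso {k : ℕ} (N : Fin (k + 1) → X.Modules) :
    N 0 ⊞ (⨁ fun j : Fin k => N j.succ) ≅ ⨁ N where
  hom := biprod.desc (biproduct.ι N 0) (biproduct.desc fun j : Fin k => biproduct.ι N j.succ)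
  inv := biproduct.desc (Fin.cases biprod.inl fun j => biproduct.ι (fun j : Fin k => N j.succ) j ≫ biprod.inr)
  hom_inv_id := by
    apply biprod.hom_ext'
    · simp
    · refine biproduct.hom_ext' _ _ fun j => ?_
      simp
  inv_hom_id := by
    refine biproduct.hom_ext' _ _ fun j => ?_
    refine Fin.cases ?_ (fun j => ?_) j <;> simp

/-- Merging two biproducts. -/
noncomputable def sumIso {A B : Type} [Finite A] [Finite B] (N : A → X.Modules) (N' : B → X.Modules) :
    (⨁ N) ⊞ (⨁ N') ≅ ⨁ (Sum.elim N N') where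
  hom := biprod.desc (biproduct.desc fun a => biproduct.ι (Sum.elim N N') (.inl a))
    (biproduct.desc fun b => biproduct.ι (Sum.elim N N') (.inr b))
  inv := biproduct.desc fun j => match j with
    | .inl a => biproduct.ι N a ≫ biprod.inl
    | .inr b => biproduct.ι N' b ≫ biprod.inr
  hom_inv_id := by
    apply biprod.hom_ext'
    · refine biproduct.hom_ext' _ _ fun a => ?_
      rw [biprod.inl_desc_assoc, Category.comp_id]
      exact (biproduct.ι_desc_assoc _ _ _).trans (biproduct.ι_desc _ _)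
    · refine biproduct.hom_ext' _ _ fun a => ?_
      rw [biprod.inr_desc_assoc, Category.comp_id]
      exact (biproduct.ι_desc_assoc _ _ _).trans (biproduct.ι_desc _ _)
  inv_hom_id := by
    refine biproduct.hom_ext' _ _ fun j => ?_
    refine (biproduct.ι_desc_assoc _ _ _).trans ?_
    rcases j with a | b
    · show (biproduct.ι N a ≫ biprod.inl) ≫ _ = _
      rw [Category.assoc, biprod.inl_desc, Category.comp_id]
      exact biproduct.ι_desc _ _
    · show (biproduct.ι N' b ≫ biprod.inr) ≫ _ = _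
      rw [Category.assoc, biprod.inr_desc, Category.comp_id]
      exact biproduct.ι_desc _ _

/-- Covers by finite direct sums of negative powers of an ample family. -/
theorem covers_inAddL {ι : Type w} (L : ι → X.Modules) (hL : KSix.IsAmpleFamily L) :
    Covers (KSix.InAddL L) where
  flf M hM := by
    obtain ⟨k, N, hN, ⟨e⟩⟩ := hM
    refine TensorMod.LocFree.of_iso e.symm ?_
    clear e
    induction k with
    | zero => exact Perfect.Stupid.isFinLocFree_isZero ((IsZero.iff_id_eq_zero _).2
        (biproduct.hom_ext' _ _ fun j => j.elim0))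
    | succ k ih =>
      obtain ⟨i, m, -, ⟨t⟩⟩ := hN 0
      have h0 : FlatMod.IsFinLocFree (N 0) := TensorMod.TensorInv.isFinLocFree_left t
      exact TensorMod.LocFree.of_iso ((biprod.isoCoprod _ _).symm ≪≫ succIso N)
        (TensorMod.LocFree.isFinLocFree_biprod h0 (ih (fun j => N j.succ) fun j => hN j.succ))
  epi F hF hF' := H56.ResPerf.exists_inAddL_epi L hL F hF hF'

theorem good_inAddL {ι : Type w} (L : ι → X.Modules) : Good (KSix.InAddL L) where
  zero {M} h := ⟨0, fun j => j.elim0, fun j => j.elim0, ⟨h.iso ((IsZero.iff_id_eq_zero _).2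
    (biproduct.hom_ext' _ _ fun j => j.elim0))⟩⟩
  biprod {M M'} h h' := by
    obtain ⟨k, N, hN, ⟨e⟩⟩ := h
    obtain ⟨k', N', hN', ⟨e'⟩⟩ := h'
    refine ⟨k + k', fun j => Sum.elim N N' (finSumFinEquiv.symm j), fun j => ?_,
      ⟨biprod.mapIso e e' ≪≫ sumIso N N' ≪≫
        (biproduct.reindex finSumFinEquiv.symm (Sum.elim N N')).symm⟩⟩
    change KSix.IsNegPower L (Sum.elim N N' (finSumFinEquiv.symm j))
    rcases finSumFinEquiv.symm j with a | a
    · exact hN a
    · exact hN' a
  iso e h := by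
    obtain ⟨k, N, hN, ⟨e'⟩⟩ := h
    exact ⟨k, N, hN, ⟨e.symm ≪≫ e'⟩⟩

theorem hasKillers_of_or [CompactSpace X] (hX : X.IsSeparated ∨ IsNoetherian X) : HasKillers X := by
  rcases hX with h | h
  · exact hasKillers_of_isSeparated
  · exact hasKillers_of_isNoetherian

variable [CompactSpace X] [QuasiSeparatedSpace X] {P : ObjectProperty X.Modules}

/-- Bounded below injective complexes with pseudo-coherent image are approximable. -/
theorem approximable (hP : Covers P) (hK : HasKillers X) (I : CochainComplex X.Modules ℤ) (a b : ℤ)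
    [I.IsStrictlyGE a] (hI : ∀ i, Injective (I.X i))
    (hpc : ∀ m, DCoh.IsPseudoCoherentD m (DCoh.toD X I)) : Approximable P I b := by
  intro n E φ hE hv hex
  let C := mappingCone φ
  have hflf := fun i => hP.flf _ (hE i)
  have hT := DerivedCategory.mappingCone_triangle_distinguished φ
  have hEq : DCoh.IsQCohD (DCoh.toD X E) := fun i => DerivedOX.QCohLocal.isQCoh_HD
    (fun j => TensorMod.QCohInv.isQCoh_of_isFinLocFree (hflf j)) (Iso.refl _) i
  have hCq : DCoh.IsQCohD (DCoh.toD X C) :=
    DerivedOX.TildeEquiv.isQCohD_mor₃ _ hT hEq (isQCohD_of_pc hpc)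
  have hH : ∀ i, (C.homology i).IsQuasicoherent := fun i => (WayOut.Scheme.qc X).prop_of_iso
    ((DerivedCategory.homologyFunctorFactors X.Modules i).app C) (hCq i)
  refine exists_lift_homology C hP hK (min a n) (fun i hi => ?_) (fun i => ?_) hH n ?_
  · refine IsZero.of_iso ?_ (HomologicalComplex.homotopyCofiber.XIsoBiprod φ i (i + 1) rfl)
    exact (IsZero.iff_id_eq_zero _).2 (biprod.hom_ext' _ _
      ((hv (i + 1) (Or.inl (by omega))).eq_of_src _ _)
      ((I.isZero_of_isStrictlyGE a i (by omega)).eq_of_src _ _))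
  · haveI := hI i
    haveI : (E.X (i + 1)).IsQuasicoherent := TensorMod.QCohInv.isQCoh_of_isFinLocFree (hflf _)
    exact eff_iso (HomologicalComplex.homotopyCofiber.XIsoBiprod φ i (i + 1) rfl).symm
      (eff_biprod (eff_qcoh hP hK _) (eff_injective hP _))
  · have hC : ∀ x, PCAt n (DCoh.toD X C) x := fun x =>
      pcAt₃ hT (H56.ResPerf.pcAt_strictlyPerfect ⟨⟨n + 1, b, hv⟩, hflf⟩ (n + 1) x)
        ((iff_forall n _).1 (hpc n) x)
    have h := Perfect.Top.isFT_top hC fun i hi =>
      ((hex i (by omega)).isZero_homology).of_iso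
        ((DerivedCategory.homologyFunctorFactors X.Modules i).app C)
    exact @Modules.SupportOps.isFT_of_iso X _ _ ((DerivedCategory.homologyFunctorFactors X.Modules n).app C) h

/-- An injective model of a cohomologically bounded below object. -/
theorem exists_injective_model (K : DCoh.D X) (a : ℤ) [K.IsGE a] :
    ∃ I : CochainComplex X.Modules ℤ, I.IsStrictlyGE a ∧ (∀ i, Injective (I.X i)) ∧
      Nonempty (DCoh.toD X I ≅ K) := by
  obtain ⟨M, hM, ⟨e⟩⟩ := K.exists_iso_Q_obj_of_isGE a
  haveI := hM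
  obtain ⟨I, j, hj, hI, hge⟩ :=
    CochainComplex.Plus.modelCategoryQuillen.exists_quasiIso_injective M a
  haveI := hj
  exact ⟨I, hge, hI, ⟨(asIso (DerivedCategory.Q.map j)).symm ≪≫ e.symm⟩⟩

/-- Pseudo-coherent bounded objects have global resolutions. -/
theorem exists_global_resolution (hP : Covers P) (hg : Good P) (hK : HasKillers X) (K : DCoh.D X)
    (hpc : ∀ m, DCoh.IsPseudoCoherentD m K) (a b : ℤ) [K.IsGE a] [K.IsLE b] :
    ∃ F : CochainComplex X.Modules ℤ, (∀ i, b < i → IsZero (F.X i)) ∧ (∀ i, P (F.X i)) ∧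
      Nonempty (DCoh.toD X F ≅ K) := by
  obtain ⟨I, hge, hI, ⟨e⟩⟩ := exists_injective_model K a
  haveI := hge
  have hpcI : ∀ m, DCoh.IsPseudoCoherentD m (DCoh.toD X I) := fun m =>
    (iff_forall m _).2 fun x => PCAt.of_iso e.symm ((iff_forall m K).1 (hpc m) x)
  have hb : ∀ i, b < i → I.ExactAt i := fun i hi =>
    (HomologicalComplex.exactAt_iff_isZero_homology _ _).2
      (((DerivedCategory.isZero_of_isLE K b i hi).of_iso
        ((DerivedCategory.homologyFunctor X.Modules i).mapIso e)).of_iso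
          ((DerivedCategory.homologyFunctorFactors X.Modules i).app I).symm)
  obtain ⟨G, s, hGb, hG, hs⟩ := exists_resolution hg hb (approximable hP hK I a b hI hpcI)
  haveI := hs
  exact ⟨G, hGb, hG, ⟨asIso (DerivedCategory.Q.map s) ≪≫ e⟩⟩

/-- Resolutions down to any degree. -/
theorem exists_stage (hg : Good P) {I : CochainComplex X.Modules ℤ} {b : ℤ}
    (hb : ∀ i, b < i → I.ExactAt i) (hA : Approximable P I b) : ∀ k : ℕ, Nonempty (Stage P I b k)
  | 0 => by
    have hz : ∀ i, IsZero ((0 : CochainComplex X.Modules ℤ).X i) := fun i =>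
      Functor.map_isZero (HomologicalComplex.eval X.Modules (.up ℤ) i) (isZero_zero _)
    exact ⟨{ E := 0, φ := 0, bounds := fun i _ => hz i, mem := fun i => hg.zero (hz i)
             exact_cone := Groth.Agent.Lib.PCoh.Resolve.exactGE_zero I hz 0 fun i hi => hb i (by lia) }⟩
  | k + 1 => by
    obtain ⟨s⟩ := exists_stage hg hb hA k
    obtain ⟨s', -⟩ := exists_next hg hA s
    exact ⟨s'⟩

/-- Objects of perfect amplitude in `[m, n]` have global resolutions in `[m, n]`. -/
theorem exists_perfect_resolution (hP : Covers P) (hg : Good P) (hK : HasKillers X) (K : DCoh.D X)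
    (m n : ℤ) (hmn : m ≤ n) (h : KSix.HasPerfectAmplitudeIn m n K) :
    ∃ F : CochainComplex X.Modules ℤ, DCoh.VanishesOutside F m n ∧ (∀ i, m < i → P (F.X i)) ∧
      FlatMod.IsFinLocFree (F.X m) ∧ Nonempty (DCoh.toD X F ≅ K) := by
  obtain ⟨-, E₀, hv₀, hflat, ⟨e₀⟩⟩ := Perfect.PerfAmp.of_hasPerfectAmplitudeIn hmn h
  have hperf : DCoh.IsPerfect K := fun x => by
    obtain ⟨V, hx, hV⟩ := h x
    refine ⟨V, hx, fun F hF => ?_⟩
    obtain ⟨E, hv, hf, he⟩ := hV F hF
    exact ⟨E, ⟨⟨m, n, hv⟩, hf⟩, he⟩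
  have hHD : ∀ i, i < m ∨ n < i → IsZero (DCoh.HD K i) := fun i hi =>
    (((HomologicalComplex.ExactAt.of_isZero (hv₀ i hi)).isZero_homology).of_iso
      ((DerivedCategory.homologyFunctorFactors X.Modules i).app E₀)).of_iso
        ((DerivedCategory.homologyFunctor X.Modules i).mapIso e₀.symm)
  haveI : K.IsGE m := (DerivedCategory.isGE_iff _ _).2 fun i hi => hHD i (Or.inl hi)
  obtain ⟨I, hge, hI, ⟨e⟩⟩ := exists_injective_model K m
  haveI := hge
  have hpcI : ∀ k, DCoh.IsPseudoCoherentD k (DCoh.toD X I) := fun k =>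
    (iff_forall k _).2 fun x =>
      PCAt.of_iso e.symm ((iff_forall k K).1 (((isPerfect_iff_pc_tor K).1 hperf).1 k) x)
  have hab : DerSch.HasTorAmplitude (𝟙 X) m n I :=
    BettiExact.TorAmpStalk.torAmp_of_flatAmp ⟨E₀, hv₀, hflat, ⟨e₀ ≪≫ e.symm⟩⟩
  have hb : ∀ i, n < i → I.ExactAt i := fun i hi =>
    BettiExact.TorAmpStalk.exactAt_of_torAmp hab i (Or.inr hi)
  obtain ⟨⟨E, φ, hv, hE, hex⟩⟩ :=
    exists_stage hg hb (approximable hP hK I m n hI hpcI) (n + 2 - m).toNat
  have hn : n + 1 - ((n + 2 - m).toNat : ℤ) = m - 1 := by omega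
  rw [hn] at hv hex
  have hEp : DCoh.IsStrictlyPerfect E := ⟨⟨_, _, hv⟩, fun i => hP.flf _ (hE i)⟩
  haveI : QuasiIso (CochainComplex.truncGEMap φ m) := by
    rw [CochainComplex.quasiIso_truncGEMap_iff]
    intro i hi
    rw [quasiIsoAt_iff_isIso_homologyMap]
    exact ((exactGE_iff φ _).1 hex).2 i (by omega)
  let ψ : E.truncGE m ⟶ I := CochainComplex.truncGEMap φ m ≫ inv (I.πTruncGE m)
  haveI : QuasiIso ψ := inferInstance
  refine ⟨E.truncGE m, fun i hi => ?_, fun i hi => hg.iso (E.truncGEXIso m i hi).symm (hE i), ?_,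
    ⟨asIso (DerivedCategory.Q.map ψ) ≪≫ e⟩⟩
  · rcases hi with hi | hi
    · exact (E.truncGE m).isZero_of_isStrictlyGE m i hi
    · exact (hv i (Or.inr hi)).of_iso (E.truncGEXIso m i (by omega))
  · exact TensorMod.LocFree.of_iso ((cokernelIsCokernel _).coconePointUniqueUpToIso
      (E.opcyclesIsCokernel (m - 1) m (by simp)) ≪≫ (E.truncGEXIsoOpcycles m).symm)
      (H56.ResPerf.isFinLocFree_coker φ hEp hab hex)

end Scheme

end Groth.Agent.H41.AmpleRes
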